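import Cfsg.Agent.Lib.OrderTriples.Hall

/-!
The element-order criterion for nonsolvability.
-/

set_option autoImplicit false
set_option linter.all false

namespace Cfsg.Agent.OrderTriples

open Subgroup
open scoped Pointwise commutatorElement

variable {G : Type*} [Group G] [Finite G] {σ : Finset ℕ}

/-- The criterion's hypotheses for four primes and a group with no other prime divisor. -/
structure Crit (G : Type*) [Group G] (σ : Finset ℕ) : Prop where
  solv : Group.IsSolvable G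
  card_σ : σ.card = 4
  prime : ∀ t ∈ σ, t.Prime
  noTriple : NoTriple (↑σ : Set ℕ) G
  pairs : ∀ a ∈ σ, ∀ b ∈ σ, a ≠ b → ∃ x y : G, orderOf x = a ∧ orderOf y = b ∧ Commute x y
  only : ∀ t : ℕ, t.Prime → t ∣ Nat.card G → t ∈ σ

theorem Crit.four2 (C : Crit G σ) {a b : ℕ} (ha : a ∈ σ) (hb : b ∈ σ) (hab : a ≠ b) :
    ∃ c d, Four (↑σ : Set ℕ) a b c d ∧ ∀ t ∈ σ, t = a ∨ t = b ∨ t = c ∨ t = d := by
  have h1 : ((σ.erase a).erase b).card = 2 := by
    rw [Finset.card_erase_of_mem (Finset.mem_erase.2 ⟨hab.symm, hb⟩), Finset.card_erase_of_mem ha,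
      C.card_σ]
  obtain ⟨c, d, hcd, he⟩ := Finset.card_eq_two.1 h1
  have hc : c ∈ (σ.erase a).erase b := by rw [he]; simp
  have hd : d ∈ (σ.erase a).erase b := by rw [he]; simp
  simp only [Finset.mem_erase] at hc hd
  refine ⟨c, d, ⟨C.prime a ha, C.prime b hb, C.prime c hc.2.2, C.prime d hd.2.2, ha, hb, hc.2.2,
    hd.2.2, hab, hc.2.1.symm, hd.2.1.symm, hc.1.symm, hd.1.symm, hcd⟩, fun t ht => ?_⟩
  by_contra hcon
  push Not at hcon
  have : t ∈ (σ.erase a).erase b :=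
    Finset.mem_erase.2 ⟨hcon.2.1, Finset.mem_erase.2 ⟨hcon.1, ht⟩⟩
  rw [he] at this
  simp [hcon.2.2.1, hcon.2.2.2] at this

theorem Crit.exists_ne (C : Crit G σ) (a : ℕ) : ∃ b ∈ σ, b ≠ a :=
  Finset.exists_mem_ne (by rw [C.card_σ]; norm_num) a

theorem Crit.four1 (C : Crit G σ) {a : ℕ} (ha : a ∈ σ) :
    ∃ b c d, Four (↑σ : Set ℕ) a b c d ∧ ∀ t ∈ σ, t = a ∨ t = b ∨ t = c ∨ t = d := by
  obtain ⟨b, hb, hba⟩ := C.exists_ne a
  obtain ⟨c, d, h⟩ := C.four2 ha hb hba.symm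
  exact ⟨b, c, d, h⟩

/-- Every prime of `σ` has an elementary group of order `r ^ 2`. -/
theorem Crit.esq (C : Crit G σ) {r : ℕ} (hr : r ∈ σ) : ∃ E : Subgroup G, ESq r E := by
  by_contra hcon
  push Not at hcon
  have hrp := C.prime r hr
  haveI := Fact.mk hrp
  obtain ⟨a, b, c, F, -⟩ := C.four1 hr
  obtain ⟨P⟩ : Nonempty (Sylow r G) := inferInstance
  have hPne : (P : Subgroup G) ≠ ⊥ := by
    intro h
    obtain ⟨x, y, hx, -, -⟩ := C.pairs r hr a F.mq F.pq
    have := Sylow.ne_bot_of_dvd_card P (hx ▸ _root_.orderOf_dvd_natCard x)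
    exact this h
  obtain ⟨z, hz, hzo⟩ := exists_orderOf hrp (isPGroup_zOmega P.isPGroup')
    (zOmega_ne_bot hrp P.isPGroup' hPne)
  have key : ∀ t ∈ σ, t ≠ r → ∃ y : G, orderOf y = t ∧ Commute z y := by
    intro t ht htr
    obtain ⟨x, y, hx, hy, hxy⟩ := C.pairs r hr t ht htr.symm
    obtain ⟨Q, hQ⟩ := (isPGroup_zpowers (hx ▸ pow_orderOf_eq_one x)).exists_le_sylow
    obtain ⟨g, hg⟩ := MulAction.exists_smul_eq G Q P
    have hgx : g * x * g⁻¹ ∈ (P : Subgroup G) := by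
      rw [← hg]
      show g * x * g⁻¹ ∈ MulAut.conj g • (Q : Subgroup G)
      have h := smul_mem_pointwise_smul x (MulAut.conj g) (Q : Subgroup G) (hQ (mem_zpowers x))
      exact h
    refine ⟨g * y * g⁻¹, by rw [conj_order, hy], ?_⟩
    by_cases hmem : g * x * g⁻¹ ∈ zpowers z
    · have heq : zpowers (g * x * g⁻¹) = zpowers z := by
        refine eq_of_le_of_card_ge (zpowers_le.2 hmem) ?_
        rw [Nat.card_zpowers, Nat.card_zpowers, conj_order, hx, hzo]
      have hzm : z ∈ zpowers (g * x * g⁻¹) := heq ▸ mem_zpowers z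
      obtain ⟨k, hk⟩ := mem_zpowers_iff.1 hzm
      rw [← hk]
      exact (conj_commute hxy).zpow_left k
    · exact absurd (esq_of_pair hrp hzo (by rw [conj_order, hx]) (hz.2.2 _ hgx) hmem) (hcon _)
  set L := centralizer ({z} : Set G) with hL
  have hdvd : ∀ t ∈ σ, t ≠ r → t ∣ Nat.card L := by
    intro t ht htr
    obtain ⟨y, hy, hzy⟩ := key t ht htr
    exact hy ▸ orderOf_dvd_natCard L (mem_cent.2 hzy)
  haveI := C.solv
  refine lucido (G := L) F.hq F.hr F.hs F.qr F.qs F.rs ?_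
    (L := (⊤ : Subgroup L)) inferInstance
    (by rw [card_top]; exact hdvd a F.mq F.pq.symm) (by rw [card_top]; exact hdvd b F.mr F.pr.symm)
    (by rw [card_top]; exact hdvd c F.ms F.ps.symm)
  intro u v hu hv huv x y hx hy hxy
  have hu' : u ∈ σ ∧ r ≠ u := by
    rcases hu with rfl | rfl | rfl
    exacts [⟨F.mq, F.pq⟩, ⟨F.mr, F.pr⟩, ⟨F.ms, F.ps⟩]
  have hv' : v ∈ σ ∧ r ≠ v := by
    rcases hv with rfl | rfl | rfl
    exacts [⟨F.mq, F.pq⟩, ⟨F.mr, F.pr⟩, ⟨F.ms, F.ps⟩]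
  exact C.noTriple r u v z x y hr hu'.1 hv'.1 hu'.2 huv hv'.2 hzo (by rw [orderOf_coe, hx])
    (by rw [orderOf_coe, hy]) (mem_cent.1 x.2) (mem_cent.1 y.2) (congrArg Subtype.val hxy.eq)

/-- Three nontrivial cores are impossible. -/
theorem Crit.not_three_cores (C : Crit G σ) {L : Subgroup G} {a b c : ℕ} (ha : a ∈ σ) (hb : b ∈ σ)
    (hc : c ∈ σ) (hab : a ≠ b) (hbc : b ≠ c) (hac : a ≠ c) (h1 : coreIn a L ≠ ⊥)
    (h2 : coreIn b L ≠ ⊥) (h3 : coreIn c L ≠ ⊥) : False := by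
  haveI := Fact.mk (C.prime a ha)
  haveI := Fact.mk (C.prime b hb)
  haveI := Fact.mk (C.prime c hc)
  obtain ⟨x, hx, hxo⟩ := exists_orderOf (C.prime a ha) (coreIn_isPGroup a L) h1
  obtain ⟨y, hy, hyo⟩ := exists_orderOf (C.prime b hb) (coreIn_isPGroup b L) h2
  obtain ⟨z, hz, hzo⟩ := exists_orderOf (C.prime c hc) (coreIn_isPGroup c L) h3
  have hcom : ∀ {u v : ℕ} [Fact u.Prime] [Fact v.Prime], u ≠ v → ∀ {g h : G}, g ∈ coreIn u L →
      h ∈ coreIn v L → Commute g h := fun {u v} _ _ huv {g h} hg hh =>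
    commute_of_normalize_disjoint ((coreIn_le u L).trans (le_normalizer_coreIn v L))
      ((coreIn_le v L).trans (le_normalizer_coreIn u L))
      (pGroup_disjoint Fact.out Fact.out huv (coreIn_isPGroup u L) (coreIn_isPGroup v L)) hg hh
  exact C.noTriple a b c x y z ha hb hc hab hbc hac hxo hyo hzo (hcom hab hx hy) (hcom hac hx hz)
    (hcom hbc hy hz)

/-- A prime of `σ` is a core of every nontrivial subgroup. -/
theorem Crit.exists_core (C : Crit G σ) {L : Subgroup G} (hne : L ≠ ⊥) :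
    ∃ t ∈ σ, t ∣ Nat.card L ∧ coreIn t L ≠ ⊥ := by
  haveI := C.solv
  obtain ⟨t, ht, hd, h⟩ := exists_coreIn_ne_bot (L := L) inferInstance hne
  exact ⟨t, C.only t ht (hd.trans (card_subgroup_dvd_card L)), hd, h⟩

theorem inf_eq_bot_of_primes {A B : Subgroup G} {π : Set ℕ}
    (hA : ∀ t : ℕ, t.Prime → t ∣ Nat.card A → t ∈ π)
    (hB : ∀ t : ℕ, t.Prime → t ∣ Nat.card B → t ∉ π) : A ⊓ B = ⊥ := by
  rw [← card_eq_one]
  by_contra h
  obtain ⟨t, ht, hd⟩ := Nat.exists_prime_and_dvd h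
  exact hB t ht (hd.trans (card_dvd_of_le inf_le_right)) (hA t ht (hd.trans (card_dvd_of_le inf_le_left)))

theorem conj_mem_cent {X : Subgroup G} {a b : G} (ha : a ∈ centralizer (X : Set G))
    (hb : b ∈ normalizer (X : Set G)) : b * a * b⁻¹ ∈ centralizer (X : Set G) := by
  rw [mem_centralizer_iff] at *
  intro u hu
  have hu' : b⁻¹ * u * b ∈ X := by simpa using (mem_normalizer_iff.1 (inv_mem hb) u).1 hu
  calc u * (b * a * b⁻¹) = b * (b⁻¹ * u * b * a) * b⁻¹ := by group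
    _ = b * (a * (b⁻¹ * u * b)) * b⁻¹ := by rw [ha _ hu']
    _ = b * a * b⁻¹ * u := by group

/-- Two commuting cores on the top: the `Split` situation. -/
theorem Crit.two_top (C : Crit G σ) {p q r s : ℕ} (F : Four (↑σ : Set ℕ) p q r s)
    (hcover : ∀ t ∈ σ, t = p ∨ t = q ∨ t = r ∨ t = s) (hp : coreIn p (⊤ : Subgroup G) ≠ ⊥)
    (hq : coreIn q (⊤ : Subgroup G) ≠ ⊥) : False := by
  haveI := C.solv
  haveI := Fact.mk F.hp
  haveI := Fact.mk F.hq
  set P0 := coreIn p (⊤ : Subgroup G)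
  set Q0 := coreIn q (⊤ : Subgroup G)
  have hC : (⊤ : Subgroup G) ⊓ centralizer ((P0 ⊔ Q0 : Subgroup G) : Set G) ≤ P0 ⊔ Q0 := by
    refine inf_centralizer_two_coreIn_le inferInstance p q fun t ht hd htp htq => ?_
    by_contra h
    exact C.not_three_cores F.mp F.mq (C.only t ht (hd.trans (card_subgroup_dvd_card _))) F.pq
      (Ne.symm htq) (Ne.symm htp) hp hq h
  obtain ⟨L, hLtop, hLs, hLp, -, hconj⟩ :=
    exists_hall_in (L := (⊤ : Subgroup G)) inferInstance {t | t = r ∨ t = s}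
  obtain ⟨Er, hEr⟩ := C.esq F.mr
  obtain ⟨Es, hEs⟩ := C.esq F.ms
  have hPQ : ∀ u ∈ P0, ∀ v ∈ Q0, Commute u v := fun u hu v hv =>
    commute_of_normalize_disjoint ((coreIn_le p _).trans (le_normalizer_coreIn q _))
      ((coreIn_le q _).trans (le_normalizer_coreIn p _))
      (pGroup_disjoint F.hp F.hq F.pq (coreIn_isPGroup p _) (coreIn_isPGroup q _)) hu hv
  have hd : L ⊓ (P0 ⊔ Q0) = ⊥ := by
    refine inf_eq_bot_of_primes hLp fun t ht hd hm => ?_
    have h := Basics.card_mul_card_eq_card_sup_mul_card_inf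
      ((coreIn_le q _).trans (le_normalizer_coreIn p (⊤ : Subgroup G)))
    have hd' : t ∣ Nat.card P0 * Nat.card Q0 := h ▸ hd.trans (dvd_mul_right _ _)
    rcases ht.dvd_mul.1 hd' with h' | h'
    · have := primes_pGroup F.hp (coreIn_isPGroup p _) t ht h'
      rcases hm with e | e
      · exact F.pr (this.symm.trans e)
      · exact F.ps (this.symm.trans e)
    · have := primes_pGroup F.hq (coreIn_isPGroup q _) t ht h'
      rcases hm with e | e
      · exact F.qr (this.symm.trans e)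
      · exact F.qs (this.symm.trans e)
  exact Split.false_aux (T := (⟨F, C.noTriple, coreIn_isPGroup p _, coreIn_isPGroup q _, hp, hq,
    hLtop.trans (le_normalizer_coreIn p _), hLtop.trans (le_normalizer_coreIn q _), hPQ, by
      rw [eq_bot_iff, ← hd]
      rintro x ⟨⟨hx, hxP⟩, hxQ⟩
      refine ⟨hx, hC ⟨mem_top x, ?_⟩⟩
      have hle : P0 ⊔ Q0 ≤ centralizer ({x} : Set G) :=
        sup_le (fun w hw => mem_cent.2 (mem_centralizer_iff.1 hxP w hw).symm)
          (fun w hw => mem_cent.2 (mem_centralizer_iff.1 hxQ w hw).symm)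
      exact mem_centralizer_iff.2 fun w hw => (mem_cent.1 (hle hw)).eq.symm,
    hLs, hLp, exists_esq_in F.hr (Or.inl rfl) hconj le_top hEr,
    exists_esq_in F.hs (Or.inr rfl) hconj le_top hEs⟩ : Split (↑σ : Set ℕ) p q r s P0 Q0 L))

/-- The data of a chain `P0`, `K`. -/
structure Chain (σ : Finset ℕ) (p : ℕ) (P0 K : Subgroup G) (q r s : ℕ) : Prop where
  four : Four (↑σ : Set ℕ) p q r s
  hP : IsPGroup p P0
  P_ne : P0 ≠ ⊥
  hKP : K ≤ normalizer (P0 : Set G)
  faith : K ⊓ centralizer (P0 : Set G) = ⊥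
  primes : ∀ t : ℕ, t.Prime → t ∣ Nat.card K → t = q ∨ t = r ∨ t = s
  eq' : ∀ u : ℕ, u = q ∨ u = r ∨ u = s → ∃ A ≤ K, ESq u A

theorem Chain.stage {p q r s : ℕ} {P0 K : Subgroup G} (h : Chain σ p P0 K q r s)
    (C : Crit G σ) (hq : coreIn q K ≠ ⊥) : Stage (↑σ : Set ℕ) p q P0 (coreIn q K) K :=
  haveI := Fact.mk h.four.hq
  ⟨C.noTriple, h.hP, coreIn_isPGroup q K, h.P_ne, hq, coreIn_le q K, h.hKP,
    le_normalizer_coreIn q K, h.faith⟩

theorem Chain.swap {p q r s : ℕ} {P0 K : Subgroup G} (h : Chain σ p P0 K q r s) :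
    Chain σ p P0 K q s r :=
  ⟨h.four.swap, h.hP, h.P_ne, h.hKP, h.faith, fun t ht hd => by have := h.primes t ht hd; tauto,
    fun u hu => h.eq' u (by tauto)⟩

theorem Chain.mid {p q r s : ℕ} {P0 K : Subgroup G} (h : Chain σ p P0 K q r s) :
    Chain σ p P0 K r q s :=
  ⟨h.four.mid, h.hP, h.P_ne, h.hKP, h.faith, fun t ht hd => by have := h.primes t ht hd; tauto,
    fun u hu => h.eq' u (by tauto)⟩

theorem Chain.pair {p q r s : ℕ} {P0 K : Subgroup G} (h : Chain σ p P0 K q r s)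
    (C : Crit G σ) : ∃ L, Pair K L r s ∧
      ∀ A ≤ K, (∀ t : ℕ, t.Prime → t ∣ Nat.card A → t = r ∨ t = s) →
        ∃ g ∈ K, ∀ x ∈ A, g * x * g⁻¹ ∈ L := by
  haveI := C.solv
  obtain ⟨L, hLK, hLs, hLp, -, hconj⟩ := exists_hall_in (L := K) inferInstance {t | t = r ∨ t = s}
  obtain ⟨A, hA, hA'⟩ := h.eq' r (Or.inr (Or.inl rfl))
  obtain ⟨E, hE, hE'⟩ := h.eq' s (Or.inr (Or.inr rfl))
  exact ⟨L, ⟨hLK, hLs, hLp, exists_esq_in h.four.hr (Or.inl rfl) hconj hA hA',
    exists_esq_in h.four.hs (Or.inr rfl) hconj hE hE'⟩, hconj⟩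

/-- Only one core below `P0`. -/
theorem Chain.one_false {p q r s : ℕ} {P0 K : Subgroup G} (h : Chain σ p P0 K q r s)
    (C : Crit G σ) (hq : coreIn q K ≠ ⊥) (hr : coreIn r K = ⊥) (hs : coreIn s K = ⊥) : False := by
  haveI := C.solv
  haveI := Fact.mk h.four.hq
  have hCQ : K ⊓ centralizer (coreIn q K : Set G) ≤ coreIn q K := by
    refine inf_centralizer_coreIn_le inferInstance q h.four.hq fun t ht hd htq => ?_
    rcases h.primes t ht hd with rfl | rfl | rfl
    · exact absurd rfl htq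
    · exact hr
    · exact hs
  have aux : ∀ {r s : ℕ}, Chain σ p P0 K q r s → ∀ {L : Subgroup G}, Pair K L r s →
      coreIn r L ≠ ⊥ → False := by
    intro r s h' L hL hne
    obtain ⟨A, hAL, hA, hAc⟩ := (h'.stage C hq).exists_esq_cent h'.four hL hne
    have hle : A ≤ coreIn q K := (le_inf (hAL.trans hL.le) hAc).trans hCQ
    exact hA.ne_bot h'.four.hr (by
      rw [eq_bot_iff, ← pGroup_disjoint h'.four.hr h'.four.hq h'.four.qr.symm hA.isPGroup
        (coreIn_isPGroup q K)]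
      exact le_inf le_rfl hle)
  obtain ⟨L, hL, -⟩ := h.pair C
  obtain ⟨A, hAL, hA⟩ := hL.er
  have hLne : L ≠ ⊥ := fun e => hA.ne_bot h.four.hr (le_bot_iff.1 (e ▸ hAL))
  obtain ⟨t, ht, htd, htne⟩ := exists_coreIn_ne_bot hL.solv hLne
  rcases hL.primes t ht htd with rfl | rfl
  · exact aux h hL htne
  · exact aux h.swap hL.swap htne

/-- A core below `P0` gives an elementary group centralising the other core. -/
theorem Chain.esq_of_core {p q r s : ℕ} {P0 K : Subgroup G} (h : Chain σ p P0 K q r s)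
    (C : Crit G σ) (hq : coreIn q K ≠ ⊥) (hr : coreIn r K ≠ ⊥) :
    ∃ A ≤ K, ESq r A ∧ A ≤ centralizer (coreIn q K : Set G) := by
  haveI := Fact.mk h.four.hr
  obtain ⟨L, hL, hconj⟩ := h.pair C
  have hRp := coreIn_isPGroup r K
  obtain ⟨g, hg, hgx⟩ := hconj _ (coreIn_le r K)
    fun t ht hd => Or.inl (primes_pGroup h.four.hr hRp t ht hd)
  have hRL : coreIn r K ≤ L := le_of_normal_conj_le (le_normalizer_coreIn r K) hg hgx
  have hne : coreIn r L ≠ ⊥ := fun e => hr (le_bot_iff.1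
    (e ▸ le_coreIn hRL (hL.le.trans (le_normalizer_coreIn r K)) hRp))
  obtain ⟨A, hA, h'⟩ := (h.stage C hq).exists_esq_cent h.four hL hne
  exact ⟨A, hA.trans hL.le, h'⟩

/-- Two cores below `P0`. -/
theorem Chain.two_false {p q r s : ℕ} {P0 K : Subgroup G} (h : Chain σ p P0 K q r s)
    (C : Crit G σ) (hq : coreIn q K ≠ ⊥) (hr : coreIn r K ≠ ⊥) : False := by
  haveI := C.solv
  haveI := Fact.mk h.four.hq
  haveI := Fact.mk h.four.hr
  obtain ⟨A, hAK, hA, hAc⟩ := h.esq_of_core C hq hr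
  obtain ⟨B, hBK, hB, hBc⟩ := h.mid.esq_of_core C hr hq
  set Q0 := coreIn q K
  set R0 := coreIn r K
  have hC : K ⊓ centralizer ((Q0 ⊔ R0 : Subgroup G) : Set G) ≤ Q0 ⊔ R0 := by
    refine inf_centralizer_two_coreIn_le inferInstance q r fun t ht hd htq htr => ?_
    by_contra hne
    exact C.not_three_cores h.four.mq h.four.mr (C.only t ht (hd.trans (card_subgroup_dvd_card _)))
      h.four.qr (Ne.symm htr) (Ne.symm htq) hq hr hne
  have hcomm : ∀ x ∈ Q0, ∀ y ∈ R0, Commute x y := fun x hx y hy =>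
    commute_of_normalize_disjoint ((coreIn_le q K).trans (le_normalizer_coreIn r K))
      ((coreIn_le r K).trans (le_normalizer_coreIn q K))
      (pGroup_disjoint h.four.hq h.four.hr h.four.qr (coreIn_isPGroup q K) (coreIn_isPGroup r K))
      hx hy
  have hAB : ∀ a ∈ A, ∀ b ∈ B, Commute a b := by
    intro a ha b hb
    have haK := hAK ha
    have hbK := hBK hb
    set c := a * b * a⁻¹ * b⁻¹ with hc
    have h1 : c ∈ centralizer (Q0 : Set G) := by
      have e : c = a * (b * a⁻¹ * b⁻¹) := by rw [hc]; group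
      rw [e]
      exact Subgroup.mul_mem _ (hAc ha)
        (conj_mem_cent (Subgroup.inv_mem _ (hAc ha)) (le_normalizer_coreIn q K hbK))
    have h2 : c ∈ centralizer (R0 : Set G) :=
      Subgroup.mul_mem _ (conj_mem_cent (hBc hb) (le_normalizer_coreIn r K haK))
        (Subgroup.inv_mem _ (hBc hb))
    have hmem : c ∈ Q0 ⊔ R0 := by
      refine hC ⟨K.mul_mem (K.mul_mem (K.mul_mem haK hbK) (K.inv_mem haK)) (K.inv_mem hbK), ?_⟩
      have hle : Q0 ⊔ R0 ≤ centralizer ({c} : Set G) :=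
        sup_le (fun w hw => mem_cent.2 (mem_centralizer_iff.1 h1 w hw).symm)
          (fun w hw => mem_cent.2 (mem_centralizer_iff.1 h2 w hw).symm)
      exact mem_centralizer_iff.2 fun w hw => (mem_cent.1 (hle hw)).eq.symm
    have hq' : c ∈ Q0 := commutator_part h.four.hq h.four.hr h.four.qr (coreIn_isPGroup q K)
      (coreIn_isPGroup r K) hcomm (hB.exp b hb)
      (fun y hy => (mem_centralizer_iff.1 (hBc hb) y hy).symm) (le_normalizer_coreIn q K hbK)
      ((coreIn_le r K).trans (le_normalizer_coreIn q K)) hmem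
    have hinv : c⁻¹ = b * a * b⁻¹ * a⁻¹ := by rw [hc]; group
    have hr' : c⁻¹ ∈ R0 := by
      rw [hinv]
      refine commutator_part h.four.hr h.four.hq h.four.qr.symm (coreIn_isPGroup r K)
        (coreIn_isPGroup q K) (fun x hx y hy => (hcomm y hy x hx).symm) (hA.exp a ha)
        (fun y hy => (mem_centralizer_iff.1 (hAc ha) y hy).symm) (le_normalizer_coreIn r K haK)
        ((coreIn_le q K).trans (le_normalizer_coreIn r K)) ?_
      rw [← hinv, sup_comm]
      exact Subgroup.inv_mem _ hmem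
    have hone : c ∈ Q0 ⊓ R0 := ⟨hq', R0.inv_mem_iff.1 hr'⟩
    rw [pGroup_disjoint h.four.hq h.four.hr h.four.qr (coreIn_isPGroup q K) (coreIn_isPGroup r K),
      mem_bot] at hone
    exact mul_inv_eq_iff_eq_mul.1 (mul_inv_eq_one.1 hone)
  obtain ⟨b, hb, hbo, hfx⟩ := hB.exists_fx h.four.hq h.four.hp h.four.pq.symm h.hP h.P_ne
    (hBK.trans h.hKP)
  obtain ⟨a, ha, hao, u, hu, huo, hau⟩ := hA.exists_fx h.four.hr h.four.hp h.four.pr.symm
    (h.hP.to_le inf_le_left) ((fx_iff h.four.hp h.hP).1 hfx)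
    (fun a ha => mem_normalizer_inf_cent (h.hKP (hAK ha)) (hAB a ha b hb))
  exact C.noTriple p q r u b a h.four.mp h.four.mq h.four.mr h.four.pq h.four.qr h.four.pr huo hbo
    hao (mem_cent.1 hu.2).symm hau.symm (hAB a ha b hb).symm

/-- One core on the top. -/
theorem Crit.one_top (C : Crit G σ) {p q r s : ℕ} (F : Four (↑σ : Set ℕ) p q r s)
    (hcover : ∀ t ∈ σ, t = p ∨ t = q ∨ t = r ∨ t = s) (hp : coreIn p (⊤ : Subgroup G) ≠ ⊥)
    (hone : ∀ t ∈ σ, t ≠ p → coreIn t (⊤ : Subgroup G) = ⊥) : False := by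
  haveI := C.solv
  haveI := Fact.mk F.hp
  set P0 := coreIn p (⊤ : Subgroup G)
  have hC : (⊤ : Subgroup G) ⊓ centralizer (P0 : Set G) ≤ P0 :=
    inf_centralizer_coreIn_le inferInstance p F.hp fun t ht hd htp =>
      hone t (C.only t ht (hd.trans (card_subgroup_dvd_card _))) htp
  obtain ⟨K, -, -, hKp, -, hconj⟩ :=
    exists_hall_in (L := (⊤ : Subgroup G)) inferInstance {t | t = q ∨ t = r ∨ t = s}
  have hd : K ⊓ P0 = ⊥ := by
    refine inf_eq_bot_of_primes hKp fun t ht hd hm => ?_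
    have := primes_pGroup F.hp (coreIn_isPGroup p _) t ht hd
    rcases hm with e | e | e
    exacts [F.pq (this.symm.trans e), F.pr (this.symm.trans e), F.ps (this.symm.trans e)]
  have h : Chain σ p P0 K q r s := by
    refine ⟨F, coreIn_isPGroup p _, hp, le_top.trans (le_normalizer_coreIn p _), ?_, hKp, ?_⟩
    · rw [eq_bot_iff, ← hd]
      exact fun x hx => ⟨hx.1, hC ⟨mem_top x, hx.2⟩⟩
    · intro u hu
      have hm : u ∈ σ := by
        rcases hu with rfl | rfl | rfl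
        exacts [F.mq, F.mr, F.ms]
      obtain ⟨E, hE⟩ := C.esq hm
      exact exists_esq_in (C.prime u hm) hu hconj le_top hE
  clear_value P0
  have key : ∀ {q r s : ℕ}, Chain σ p P0 K q r s → coreIn q K ≠ ⊥ → False := by
    intro q r s h hq
    by_cases hr : coreIn r K = ⊥
    · by_cases hs : coreIn s K = ⊥
      · exact h.one_false C hq hr hs
      · exact h.swap.two_false C hq hs
    · exact h.two_false C hq hr
  obtain ⟨A, hAK, hA⟩ := h.eq' q (Or.inl rfl)
  obtain ⟨t, ht, htd, htne⟩ := C.exists_core (L := K)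
    fun e => hA.ne_bot F.hq (le_bot_iff.1 (e ▸ hAK))
  rcases hKp t (C.prime t ht) htd with rfl | rfl | rfl
  · exact key h htne
  · exact key h.mid htne
  · exact key h.swap.mid htne

theorem Crit.false_aux (C : Crit G σ) : False := by
  haveI := C.solv
  obtain ⟨a, ha⟩ : σ.Nonempty := Finset.card_pos.1 (by rw [C.card_σ]; norm_num)
  obtain ⟨E, hE⟩ := C.esq ha
  obtain ⟨p, hp, -, hpne⟩ := C.exists_core (L := (⊤ : Subgroup G))
    fun e => hE.ne_bot (C.prime a ha) (le_bot_iff.1 (e ▸ le_top))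
  by_cases h : ∃ q ∈ σ, q ≠ p ∧ coreIn q (⊤ : Subgroup G) ≠ ⊥
  · obtain ⟨q, hq, hqp, hqne⟩ := h
    obtain ⟨r, s, F, hcover⟩ := C.four2 hp hq hqp.symm
    exact C.two_top F hcover hpne hqne
  · push Not at h
    obtain ⟨q, r, s, F, hcover⟩ := C.four1 hp
    exact C.one_top F hcover hpne h

end Cfsg.Agent.OrderTriples
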